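import Groth.Agent.MeroFrac.Basic
import Groth.Agent.GenLocus.Basic
import Groth.Prelude.Def_MeroDiv

/-!
# Regular meromorphic sections of invertible modules, no embedded weakly associated points
-/

set_option autoImplicit false
set_option linter.style.haveILetI false

noncomputable section

universe u

open CategoryTheory AlgebraicGeometry Opposite TopologicalSpace Groth.Agent.QCohBase Groth.Agent.GenLocus

namespace Groth.Agent.MeroFrac

variable {X : Scheme.{u}}

theorem isNilpotent_of_maximal {z : X} (hz : ∀ y : X, y ⤳ z → y = z) {a : X.presheaf.stalk z}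
    (ha : ¬ IsUnit a) : IsNilpotent a := by
  rw [nilpotent_iff_mem_prime]
  intro J hJ
  have hm : (X.fromSpecStalk z) ⟨J, hJ⟩ ⤳ z := by
    have hm : (X.fromSpecStalk z) ⟨J, hJ⟩ ∈ Set.range (X.fromSpecStalk z) := ⟨_, rfl⟩
    rwa [Scheme.range_fromSpecStalk] at hm
  have he := (X.fromSpecStalk z).injective ((hz _ hm).trans Scheme.fromSpecStalk_closedPoint.symm)
  rw [show J = IsLocalRing.maximalIdeal (X.presheaf.stalk z) from congrArg PrimeSpectrum.asIdeal he]
  exact (IsLocalRing.mem_maximalIdeal _).2 ha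

/-- Maximal points are weakly associated. -/
theorem wass_of_maximal {z : X} (hz : ∀ y : X, y ⤳ z → y = z) :
    Curv2.IsWeakAssPoint (Coh.structureModule X) z := by
  refine (AssPts.isWeakAssPoint_iff' (Coh.structureModule X) z).2 ⟨ReflStalk.eO z 1, ?_, fun a ha => ?_⟩
  · rw [Ne, LinearEquiv.map_eq_zero_iff]
    exact one_ne_zero
  · obtain ⟨n, hn⟩ := isNilpotent_of_maximal hz ((IsLocalRing.mem_maximalIdeal a).1 ha)
    exact ⟨n, by rw [hn, zero_smul]⟩

theorem exists_maximal_generization (y : X) : ∃ g : X, g ⤳ y ∧ ∀ w : X, w ⤳ g → w = g := by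
  obtain ⟨U, hU, hyU, -⟩ := exists_isAffineOpen_mem_and_subset (U := (⊤ : X.Opens)) (x := y) trivial
  obtain ⟨q, hq, hqp⟩ := Ideal.exists_minimalPrimes_le
    (I := (⊥ : Ideal Γ(X, U))) (J := (hU.primeIdealOf ⟨y, hyU⟩).asIdeal) bot_le
  haveI := hq.1.1
  obtain ⟨g, hgU, hg⟩ := AssPts.exists_point hU q
  refine ⟨g, (AssPts.specializes_iff hU y hyU hgU).2 (hg ▸ hqp), fun w hw => ?_⟩
  have hwU : w ∈ U := hw.mem_open U.2 hgU
  have h1 := (AssPts.specializes_iff hU g hgU hwU).1 hw
  have h2 : q ≤ (hU.primeIdealOf ⟨w, hwU⟩).asIdeal :=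
    hq.2 ⟨(hU.primeIdealOf ⟨w, hwU⟩).isPrime, bot_le⟩ (h1.trans hg.le)
  exact (hw.antisymm ((AssPts.specializes_iff hU w hwU hgU).2 (hg ▸ h2))).eq

theorem finite_wass_of_maximal {U : X.Opens}
    (ha : ∀ x : X, Curv2.IsWeakAssPoint (Coh.structureModule X) x → ∀ y : X, y ⤳ x → y = x)
    (hb : (irreducibleComponents ↥(U : Scheme.{u})).Finite) : (wass U).Finite := by
  haveI := hb.to_subtype
  let f : wass U → irreducibleComponents ↥(U : Scheme.{u}) := fun z =>
    ⟨closure {(⟨z.1, z.2.1⟩ : ↥(U : Scheme.{u}))}, isIrreducible_singleton.closure, fun T hT hle => by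
      obtain ⟨g, hg⟩ := QuasiSober.sober hT.closure isClosed_closure
      have hgz : g ⤳ (⟨z.1, z.2.1⟩ : ↥(U : Scheme.{u})) :=
        hg.specializes (subset_closure (hle (subset_closure rfl)))
      have he : g = (⟨z.1, z.2.1⟩ : ↥(U : Scheme.{u})) :=
        Subtype.ext (ha z.1 z.2.2 g.1 (hgz.map continuous_subtype_val))
      subst he
      intro w hw
      exact specializes_iff_mem_closure.1 (hg.specializes (subset_closure hw))⟩
  rw [← Set.finite_coe_iff]
  refine Finite.of_injective f fun a b hab => ?_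
  have h : closure {(⟨a.1, a.2.1⟩ : ↥(U : Scheme.{u}))} = closure {(⟨b.1, b.2.1⟩ : ↥(U : Scheme.{u}))} :=
    congrArg Subtype.val hab
  exact Subtype.ext (congrArg (fun w : ↥(U : Scheme.{u}) => w.1) (inseparable_iff_closure_eq.2 h).eq :)

theorem finite_wass [IsLocallyNoetherian X] {U : X.Opens} (hU : IsAffineOpen U) : (wass U).Finite := by
  haveI : IsNoetherianRing Γ(X, U) := IsLocallyNoetherian.component_noetherian ⟨U, hU⟩
  haveI := AssPts.isQuasicoherent_structureModule X
  have hfinite : Module.Finite Γ(X, U) Γ(Coh.structureModule X, U) :=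
    inferInstanceAs (Module.Finite Γ(X, U) Γ(X, U))
  rw [← Set.finite_coe_iff]
  haveI := (associatedPrimes.finite Γ(X, U) Γ(Coh.structureModule X, U)).to_subtype
  let f : wass U → associatedPrimes Γ(X, U) Γ(Coh.structureModule X, U) := fun z =>
    ⟨(hU.primeIdealOf ⟨z.1, z.2.1⟩).asIdeal, by
      obtain ⟨hp, m, hm⟩ := (AssPts.mem_ass_iff (Coh.structureModule X) hU z.1 z.2.1).1
        ((AssPts.isAssPoint_iff_isWeakAssPoint _ z.1).2 z.2.2)
      refine ⟨hp, m, ?_⟩
      rw [Submodule.bot_colon', ← hm, hp.radical]⟩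
  refine Finite.of_injective f fun a b hab => ?_
  refine Subtype.ext ?_
  rw [← hU.fromSpec_primeIdealOf ⟨a.1, a.2.1⟩, ← hU.fromSpec_primeIdealOf ⟨b.1, b.2.1⟩,
    PrimeSpectrum.ext (congrArg Subtype.val hab)]

/-- Prescribed values at finitely many maximal points, as a fraction. -/
theorem exists_frac_of_values {U : X.Opens} (hU : IsAffineOpen U) (hfin : (wass U).Finite)
    (ha : ∀ x : X, Curv2.IsWeakAssPoint (Coh.structureModule X) x → ∀ y : X, y ⤳ x → y = x)
    (f : ∀ z : wass U, X.presheaf.stalk z.1) :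
    ∃ a b : Γ(X, U), b ∈ Mero.regSub X U ∧
      ∀ z : wass U, X.presheaf.germ U z.1 z.2.1 a = f z * X.presheaf.germ U z.1 z.2.1 b := by
  classical
  haveI := hfin.fintype
  have sep : ∀ z w : wass U, w ≠ z → ∃ h : Γ(X, U),
      IsUnit (X.presheaf.germ U z.1 z.2.1 h) ∧ X.presheaf.germ U w.1 w.2.1 h = 0 := by
    intro z w hne
    have hn : ¬ w.1 ⤳ z.1 := fun hs => hne (Subtype.ext (ha z.1 z.2.2 w.1 hs))
    rw [AssPts.specializes_iff hU z.1 z.2.1 w.2.1] at hn
    obtain ⟨k, hk, hkx⟩ := SetLike.not_le_iff_exists.1 hn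
    obtain ⟨n, hn⟩ := isNilpotent_of_maximal (ha w.1 w.2.2)
      fun hu => (AssPts.notMem_prime_iff hU w.1 w.2.1 k).2 hu hk
    refine ⟨k ^ n, ?_, by rw [map_pow, hn]⟩
    rw [map_pow]
    exact ((AssPts.notMem_prime_iff hU z.1 z.2.1 k).1 hkx).pow n
  choose h hh1 hh2 using sep
  let K : wass U → Γ(X, U) := fun z => ∏ w : wass U, if hw : w = z then 1 else h z w hw
  have hK1 : ∀ z : wass U, IsUnit (X.presheaf.germ U z.1 z.2.1 (K z)) := fun z => by
    rw [map_prod, IsUnit.prod_univ_iff]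
    intro w
    split
    · rw [map_one]; exact isUnit_one
    · exact hh1 _ _ _
  have hK0 : ∀ z w : wass U, w ≠ z → X.presheaf.germ U w.1 w.2.1 (K z) = 0 := fun z w hne => by
    rw [map_prod]
    exact Finset.prod_eq_zero (Finset.mem_univ w) (by rw [dif_neg hne]; exact hh2 z w hne)
  choose g s hg hs using fun z : wass U => exists_germ_frac hU z.2.1 (f z)
  refine ⟨∑ z, K z * s z, ∑ z, K z * g z, mem_regSub_of_units hU fun z hz => ?_, fun z => ?_⟩
  · rw [map_sum, Finset.sum_eq_single (⟨z, hz⟩ : wass U)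
      (fun w _ hw => by rw [map_mul, hK0 w ⟨z, hz⟩ (Ne.symm hw), zero_mul])
      (fun hn => absurd (Finset.mem_univ _) hn), map_mul]
    exact (hK1 ⟨z, hz⟩).mul (hg ⟨z, hz⟩)
  · rw [map_sum, map_sum, Finset.sum_eq_single z
      (fun w _ hw => by rw [map_mul, hK0 w z (Ne.symm hw), zero_mul])
      (fun hn => absurd (Finset.mem_univ _) hn), Finset.sum_eq_single z
      (fun w _ hw => by rw [map_mul, hK0 w z (Ne.symm hw), zero_mul])
      (fun hn => absurd (Finset.mem_univ _) hn), map_mul, map_mul, ← hs z]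
    ring

theorem exists_germ_eq_smul {L : X.Modules} {V : X.Opens} {e : Γ(L, V)} (he : IsFrame L e) {y : X}
    (hy : y ∈ V) (v : L.presheaf.stalk y) :
    ∃ c : X.presheaf.stalk y, v = c • L.presheaf.germ V y hy e := by
  obtain ⟨W, hW, m, rfl⟩ := TopCat.Presheaf.exists_germ_eq L.presheaf v
  let T : X.Opens := W ⊓ V
  obtain ⟨r, hr⟩ := (he.res (inf_le_right : T ≤ V)).bijective.2 (L.presheaf.map (homOfLE (inf_le_left : T ≤ W)).op m)
  refine ⟨X.presheaf.germ T y ⟨hW, hy⟩ r, ?_⟩
  rw [← TopCat.Presheaf.germ_res_apply L.presheaf (homOfLE (inf_le_left : T ≤ W)) y ⟨hW, hy⟩ m, ← hr]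
  refine (Mero.germ_smul L T y ⟨hW, hy⟩ r _).trans ?_
  exact congrArg _ (TopCat.Presheaf.germ_res_apply L.presheaf (homOfLE (inf_le_right : T ≤ V)) y ⟨hW, hy⟩ e)

theorem smul_germ_frame_eq_zero {L : X.Modules} {V : X.Opens} {e : Γ(L, V)} (he : IsFrame L e) {y : X}
    (hy : y ∈ V) (c : X.presheaf.stalk y) (h : c • L.presheaf.germ V y hy e = 0) : c = 0 := by
  obtain ⟨W, hW, r, rfl⟩ := TopCat.Presheaf.exists_germ_eq X.presheaf c
  let T : X.Opens := W ⊓ V
  rw [← TopCat.Presheaf.germ_res_apply X.presheaf (homOfLE (inf_le_left : T ≤ W)) y ⟨hW, hy⟩ r,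
    ← TopCat.Presheaf.germ_res_apply L.presheaf (homOfLE (inf_le_right : T ≤ V)) y ⟨hW, hy⟩ e,
    ← Mero.germ_smul L T y ⟨hW, hy⟩] at h
  obtain ⟨S, hS, i₁, i₂, heq⟩ := TopCat.Presheaf.germ_eq L.presheaf y (U := T) (V := T) ⟨hW, hy⟩ ⟨hW, hy⟩
    _ 0 (h.trans (map_zero _).symm)
  rw [map_zero] at heq
  have hST : S ≤ T := i₁.le
  have heS := he.res (hST.trans inf_le_right)
  have h0 : X.presheaf.map (homOfLE (hST.trans inf_le_left)).op r = 0 := by
    refine heS.bijective.1 (Eq.trans ?_ (zero_smul Γ(X, S) _).symm)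
    refine Eq.trans ?_ heq
    refine TopCat.Presheaf.section_ext (⟨L.presheaf, L.isSheaf⟩ : TopCat.Sheaf AddCommGrpCat X.toTopCat) S _ _
      fun w hw => ?_
    show L.presheaf.germ S w hw _ = L.presheaf.germ S w hw _
    rw [Mero.germ_smul, TopCat.Presheaf.germ_res_apply, TopCat.Presheaf.germ_res_apply]
    refine Eq.trans ?_ (TopCat.Presheaf.germ_res_apply L.presheaf i₁ w hw _).symm
    rw [Mero.germ_smul L T w (hST hw), TopCat.Presheaf.germ_res_apply, TopCat.Presheaf.germ_res_apply]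
  rw [← TopCat.Presheaf.germ_res_apply X.presheaf (homOfLE (hST.trans inf_le_left)) y hS r, h0, map_zero]

theorem hasRegularMero {L : X.Modules} (hL : PicF.IsInvertible L)
    (ha : ∀ x : X, Curv2.IsWeakAssPoint (Coh.structureModule X) x → ∀ y : X, y ⤳ x → y = x)
    (hfin : ∀ U : X.Opens, IsAffineOpen U → (wass U).Finite) : Mero.HasRegularMero L := by
  classical
  choose V hV hxV _ e he using fun x : X => exists_isFrame hL (W := (⊤ : X.Opens)) (x := x) trivial
  let σ : ∀ z : X, L.presheaf.stalk z := fun z => L.presheaf.germ (V z) z (hxV z) (e z)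
  choose c hc using fun (x : X) (z : wass (V x)) => exists_germ_eq_smul (he x) z.2.1 (σ z.1)
  choose a b hb hab using fun x : X => exists_frac_of_values (hV x) (hfin _ (hV x)) ha (c x)
  let m : ∀ x, Γ(L, V x) := fun x => a x • e x
  have hm : ∀ (x : X) (z : wass (V x)),
      L.presheaf.germ (V x) z.1 z.2.1 (m x) = X.presheaf.germ (V x) z.1 z.2.1 (b x) • σ z.1 := fun x z => by
    rw [Mero.germ_smul, hab x z, hc x z, smul_smul, mul_comm]
  let val : ∀ x : X, Mero.MStalk L x := fun x =>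
    LocalizedModule.mk (L.presheaf.germ (V x) x (hxV x) (m x))
      (Mero.regGerm (⟨x, hxV x⟩ : V x) ⟨b x, hb x⟩)
  have agree : ∀ (x y : X) (hy : y ∈ V x), val y =
      LocalizedModule.mk (L.presheaf.germ (V x) y hy (m x))
        (Mero.regGerm (⟨y, hy⟩ : V x) ⟨b x, hb x⟩) := by
    intro x y hy
    obtain ⟨W, hW, hyW, hWV⟩ := exists_isAffineOpen_mem_and_subset (U := V x ⊓ V y) (x := y) ⟨hy, hxV y⟩
    have hW1 : W ≤ V x := fun w hw => (hWV hw).1
    have hW2 : W ≤ V y := fun w hw => (hWV hw).2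
    obtain ⟨d, hd⟩ := ((he x).res hW1).bijective.2 (L.presheaf.map (homOfLE hW2).op (m y))
    have key : X.presheaf.map (homOfLE hW1).op (b x) * d -
        X.presheaf.map (homOfLE hW2).op (b y) * X.presheaf.map (homOfLE hW1).op (a x) = 0 := by
      refine ring_eq_zero hW _ fun z hz => ?_
      refine smul_germ_frame_eq_zero ((he x).res hW1) hz.1 _ ?_
      have h1 : X.presheaf.germ W z hz.1 d • L.presheaf.germ W z hz.1 (mres L hW1 (e x)) =
          L.presheaf.germ (V y) z (hW2 hz.1) (m y) := by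
        rw [← Mero.germ_smul]
        exact (congrArg _ hd).trans (TopCat.Presheaf.germ_res_apply L.presheaf (homOfLE hW2) z hz.1 (m y))
      have h2 : X.presheaf.germ (V x) z (hW1 hz.1) (a x) • L.presheaf.germ W z hz.1 (mres L hW1 (e x)) =
          L.presheaf.germ (V x) z (hW1 hz.1) (m x) := by
        rw [Mero.germ_smul]
        exact congrArg _ (TopCat.Presheaf.germ_res_apply L.presheaf (homOfLE hW1) z hz.1 (e x))
      rw [map_sub, map_mul, map_mul, TopCat.Presheaf.germ_res_apply, TopCat.Presheaf.germ_res_apply,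
        TopCat.Presheaf.germ_res_apply, sub_smul, mul_smul, mul_smul, h1, h2, hm x ⟨z, hW1 hz.1, hz.2⟩,
        hm y ⟨z, hW2 hz.1, hz.2⟩, smul_smul, smul_smul, mul_comm, sub_self]
    refine LocalizedModule.mk_eq.2 ⟨1, ?_⟩
    rw [one_smul, one_smul, Submonoid.smul_def, Submonoid.smul_def]
    show X.presheaf.germ (V x) y hy (b x) • L.presheaf.germ (V y) y (hxV y) (m y) =
      X.presheaf.germ (V y) y (hxV y) (b y) • L.presheaf.germ (V x) y hy (m x)
    have h1 : X.presheaf.germ W y hyW d • L.presheaf.germ W y hyW (mres L hW1 (e x)) =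
        L.presheaf.germ (V y) y (hxV y) (m y) := by
      rw [← Mero.germ_smul]
      exact (congrArg _ hd).trans (TopCat.Presheaf.germ_res_apply L.presheaf (homOfLE hW2) y hyW (m y))
    have h2 : X.presheaf.germ (V x) y hy (a x) • L.presheaf.germ W y hyW (mres L hW1 (e x)) =
        L.presheaf.germ (V x) y hy (m x) := by
      rw [Mero.germ_smul]
      exact congrArg _ (TopCat.Presheaf.germ_res_apply L.presheaf (homOfLE hW1) y hyW (e x))
    rw [← h1, ← h2, smul_smul, smul_smul]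
    refine congrArg (fun q => q • L.presheaf.germ W y hyW (mres L hW1 (e x))) ?_
    have h3 := congrArg (X.presheaf.germ W y hyW) key
    rw [map_sub, map_mul, map_mul, map_zero, TopCat.Presheaf.germ_res_apply, TopCat.Presheaf.germ_res_apply,
      TopCat.Presheaf.germ_res_apply, sub_eq_zero] at h3
    exact h3
  refine ⟨⟨fun x => val x.1, fun x => ⟨V x.1, hxV x.1, homOfLE le_top, m x.1, ⟨b x.1, hb x.1⟩,
    fun y => agree x.1 y.1 y.2⟩⟩, fun x q hq => ?_⟩
  induction q using LocalizedModule.induction_on with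
  | _ r t =>
    change (Localization.mk r t : Mero.KStalk X x) • LocalizedModule.mk _ _ = 0 at hq
    rw [LocalizedModule.mk_smul_mk, ← LocalizedModule.zero_mk (1 : Mero.regStalk X x), LocalizedModule.mk_eq] at hq
    obtain ⟨u, hu⟩ := hq
    rw [one_smul, smul_zero, smul_zero, Submonoid.smul_def, Mero.germ_smul, smul_smul, smul_smul] at hu
    have h0 := smul_germ_frame_eq_zero (he x) (hxV x) _ hu
    have hareg : a x ∈ Mero.regSub X (V x) := mem_regSub_of_units (hV x) fun z hz => by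
      rw [hab x ⟨z, hz⟩]
      refine IsUnit.mul ?_ (unit_of_nzd hz.2 (hb x ⟨z, hz.1⟩))
      obtain ⟨d, hd⟩ := exists_germ_eq_smul (he z) (hxV z) (L.presheaf.germ (V x) z hz.1 (e x))
      refine IsUnit.of_mul_eq_one d (sub_eq_zero.1 (smul_germ_frame_eq_zero (he z) (hxV z) _ ?_))
      rw [sub_smul, one_smul, mul_smul, ← hd, ← hc x ⟨z, hz⟩, sub_self]
    have h1 := (mem_nonZeroDivisors_iff_right.1 (hareg ⟨x, hxV x⟩)) _ h0
    rw [mul_comm] at h1
    have h2 := (mem_nonZeroDivisors_iff_right.1 (Mero.regStalk_le_nonZeroDivisors x u.2)) _ h1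
    rw [h2, LocalizedModule.zero_mk]

end Groth.Agent.MeroFrac
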