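import Groth.Agent.AssPts.Structure
import Groth.Agent.AssPts.Basic
import Groth.Agent.RefDiv.Model
import Groth.Agent.ReflStalk.Chart
import Groth.Prelude.Def_MeroSh
import Mathlib.RingTheory.Ideal.Operations

/-!
# Meromorphic functions on an affine open with finitely many weakly associated points
-/

set_option autoImplicit false
set_option linter.style.haveILetI false

noncomputable section

universe u

open CategoryTheory AlgebraicGeometry Opposite TopologicalSpace

namespace Groth.Agent.MeroFrac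

variable {X : Scheme.{u}}

/-- The weakly associated points in an open. -/
def wass (U : X.Opens) : Set X := {z | z ∈ U ∧ Curv2.IsWeakAssPoint (Coh.structureModule X) z}

theorem unit_of_nzd {z : X} (hz : Curv2.IsWeakAssPoint (Coh.structureModule X) z)
    {b : X.presheaf.stalk z} (hb : b ∈ nonZeroDivisors (X.presheaf.stalk z)) : IsUnit b := by
  by_contra hu
  obtain ⟨w, hw, hpow⟩ := (AssPts.isWeakAssPoint_iff' (Coh.structureModule X) z).1 hz
  obtain ⟨n, hn⟩ := hpow b ((IsLocalRing.mem_maximalIdeal _).2 hu)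
  obtain ⟨c, rfl⟩ := (ReflStalk.eO z).surjective w
  rw [← map_smul, LinearEquiv.map_eq_zero_iff, smul_eq_mul] at hn
  exact hw (by rw [(mem_nonZeroDivisors_iff.1 (Submonoid.pow_mem _ hb n)).1 c hn, map_zero])

theorem ring_eq_zero {U : X.Opens} (hU : IsAffineOpen U) (s : Γ(X, U))
    (h : ∀ z (hz : z ∈ wass U), X.presheaf.germ U z hz.1 s = 0) : s = 0 := by
  haveI := AssPts.isQuasicoherent_structureModule X
  refine AssPts.eq_zero_of_forall_germ (Coh.structureModule X) hU s fun y hy hyA => ?_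
  have hw := (AssPts.isAssPoint_iff_isWeakAssPoint _ y).1 hyA
  rw [← ReflStalk.eO_germ y hy s]
  exact (congrArg (ReflStalk.eO y) (h y ⟨hy, hw⟩)).trans (map_zero _)

theorem exists_germ_frac {U : X.Opens} (hU : IsAffineOpen U) {y : X} (hy : y ∈ U)
    (a : X.presheaf.stalk y) : ∃ g s : Γ(X, U), IsUnit (X.presheaf.germ U y hy g) ∧
      a * X.presheaf.germ U y hy g = X.presheaf.germ U y hy s := by
  obtain ⟨g, r, hg, hr⟩ := AssPts.exists_ringGerm_mul_eq hU y hy a
  exact ⟨g, r, (AssPts.notMem_prime_iff hU y hy g).1 hg, hr⟩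

theorem germ_zero_iff {U : X.Opens} (hU : IsAffineOpen U) {y : X} (hy : y ∈ U) (s : Γ(X, U)) :
    X.presheaf.germ U y hy s = 0 ↔
      ∃ t : Γ(X, U), IsUnit (X.presheaf.germ U y hy t) ∧ t * s = 0 := by
  letI := (X.presheaf.germ U y hy).hom.toAlgebra
  haveI : IsLocalization.AtPrime (X.presheaf.stalk y) (hU.primeIdealOf ⟨y, hy⟩).asIdeal :=
    hU.isLocalization_stalk ⟨y, hy⟩
  show algebraMap Γ(X, U) (X.presheaf.stalk y) s = 0 ↔ _
  rw [IsLocalization.map_eq_zero_iff (hU.primeIdealOf ⟨y, hy⟩).asIdeal.primeCompl]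
  exact ⟨fun ⟨t, ht⟩ => ⟨t, (AssPts.notMem_prime_iff hU y hy t.1).1 t.2, ht⟩,
    fun ⟨t, ht, hts⟩ => ⟨⟨t, (AssPts.notMem_prime_iff hU y hy t).2 ht⟩, hts⟩⟩

theorem mem_regSub_of_units {U : X.Opens} (hU : IsAffineOpen U) {r : Γ(X, U)}
    (h : ∀ z (hz : z ∈ wass U), IsUnit (X.presheaf.germ U z hz.1 r)) : r ∈ Mero.regSub X U := by
  intro y
  refine mem_nonZeroDivisors_iff_right.2 fun a ha => ?_
  obtain ⟨g, s, hg, hs⟩ := exists_germ_frac hU y.2 a
  have h0 : X.presheaf.germ U y.1 y.2 (s * r) = 0 := by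
    rw [map_mul, ← hs, mul_right_comm, ha, zero_mul]
  obtain ⟨t, ht, htsr⟩ := (germ_zero_iff hU y.2 _).1 h0
  have hts : t * s = 0 := ring_eq_zero hU _ fun z hz => by
    have := congrArg (X.presheaf.germ U z hz.1) htsr
    rw [← mul_assoc, map_mul, map_zero] at this
    exact (h z hz).mul_left_eq_zero.1 this
  have := congrArg (X.presheaf.germ U y.1 y.2) hts
  rw [map_mul, map_zero, ← hs] at this
  exact hg.mul_left_eq_zero.1 (ht.mul_right_eq_zero.1 this)

theorem mem_regSub_of_nzd {U : X.Opens} (hU : IsAffineOpen U) {r : Γ(X, U)}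
    (hr : r ∈ nonZeroDivisors Γ(X, U)) : r ∈ Mero.regSub X U := by
  intro y
  refine mem_nonZeroDivisors_iff_right.2 fun a ha => ?_
  obtain ⟨g, s, hg, hs⟩ := exists_germ_frac hU y.2 a
  have h0 : X.presheaf.germ U y.1 y.2 (s * r) = 0 := by
    rw [map_mul, ← hs, mul_right_comm, ha, zero_mul]
  obtain ⟨t, ht, htsr⟩ := (germ_zero_iff hU y.2 _).1 h0
  have hts : t * s = 0 := (mem_nonZeroDivisors_iff_right.1 hr) _ (by rwa [mul_assoc])
  have := congrArg (X.presheaf.germ U y.1 y.2) hts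
  rw [map_mul, map_zero, ← hs] at this
  exact hg.mul_left_eq_zero.1 (ht.mul_right_eq_zero.1 this)

theorem nzd_of_regSub {U : X.Opens} {r : Γ(X, U)} (hr : r ∈ Mero.regSub X U) :
    r ∈ nonZeroDivisors Γ(X, U) := by
  refine mem_nonZeroDivisors_iff_right.2 fun a ha => ?_
  refine TopCat.Presheaf.section_ext X.sheaf _ _ _ fun y hy => ?_
  refine Eq.trans ?_ (map_zero _).symm
  have := congrArg (X.presheaf.germ U y hy) ha
  rw [map_mul, map_zero] at this
  exact (mem_nonZeroDivisors_iff_right.1 (hr ⟨y, hy⟩)) _ this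

/-- The value of the image of a function. -/
theorem evalK_toK {U : X.Opens} (r : Γ(X, U)) (y : U) :
    Mero.evalK X U y (Mero.toK X U r) = algebraMap (X.presheaf.stalk y.1) (Mero.KStalk X y.1) (X.presheaf.germ U y.1 y.2 r) := rfl

theorem local_frac {U : X.Opens} (φ : Γ(Mero.kmod X, U)) (y : U) :
    ∃ (V : X.Opens) (_ : y.1 ∈ V) (hV : V ≤ U) (a b : Γ(X, V)), b ∈ Mero.regSub X V ∧
      ∀ z : V, Mero.evalK X U ⟨z.1, hV z.2⟩ φ *
        algebraMap (X.presheaf.stalk z.1) (Mero.KStalk X z.1) (X.presheaf.germ V z.1 z.2 b) =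
        algebraMap (X.presheaf.stalk z.1) (Mero.KStalk X z.1) (X.presheaf.germ V z.1 z.2 a) := by
  obtain ⟨V, hyV, i, a, b, w⟩ := φ.2 y
  refine ⟨V, hyV, i.le, a, b.1, b.2, fun z => ?_⟩
  have h := w z
  dsimp only at h
  show φ.1 (i z) * _ = _
  rw [h, show (LocalizedModule.mk (X.presheaf.germ V z.1 z.2 a) (Mero.regGerm z b) : Mero.KStalk X z.1) =
    Localization.mk (X.presheaf.germ V z.1 z.2 a) (Mero.regGerm z b) from rfl, Localization.mk_eq_mk'_apply]
  exact IsLocalization.mk'_spec _ _ _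

theorem k_eq_zero {U : X.Opens} (φ : Γ(Mero.kmod X, U))
    (h : ∀ z (hz : z ∈ wass U), Mero.evalK X U ⟨z, hz.1⟩ φ = 0) : φ = 0 := by
  refine Subtype.ext (funext fun y => ?_)
  obtain ⟨V, hyV, hV, a, b, hb, hab⟩ := local_frac φ y
  obtain ⟨W, hW, hyW, hWV⟩ := exists_isAffineOpen_mem_and_subset (U := V) (x := y.1) hyV
  have hWV : W ≤ V := hWV
  have ha : X.presheaf.map (homOfLE hWV).op a = 0 := ring_eq_zero hW _ fun z hz => by
    rw [TopCat.Presheaf.germ_res_apply]
    refine Mero.algebraMap_KStalk_injective z ?_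
    rw [← hab ⟨z, hWV hz.1⟩, h z ⟨hV (hWV hz.1), hz.2⟩, zero_mul, map_zero]
  have h1 := hab ⟨y.1, hyV⟩
  rw [← TopCat.Presheaf.germ_res_apply X.presheaf (homOfLE hWV) y.1 hyW a, ha, map_zero, map_zero] at h1
  exact (IsLocalization.map_units (Mero.KStalk X y.1)
    (⟨_, Mero.germ_mem_regStalk (⟨y.1, hyV⟩ : V) hb⟩ : Mero.regStalk X y.1)).mul_left_eq_zero.1 h1

/-- A meromorphic function is regular near a weakly associated point. -/
theorem exists_regular_near {U : X.Opens} (hU : IsAffineOpen U) (φ : Γ(Mero.kmod X, U)) {z : X} (hz : z ∈ wass U) :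
    ∃ h : Γ(X, U), z ∈ X.basicOpen h ∧ ∃ c : Γ(X, X.basicOpen h), ∀ y (hy : y ∈ X.basicOpen h),
      Mero.evalK X U ⟨y, X.basicOpen_le h hy⟩ φ =
        algebraMap (X.presheaf.stalk y) (Mero.KStalk X y) (X.presheaf.germ _ y hy c) := by
  obtain ⟨V, hzV, hV, a, b, hb, hab⟩ := local_frac φ ⟨z, hz.1⟩
  have hbz : z ∈ X.basicOpen b := (X.mem_basicOpen b z hzV).2 (unit_of_nzd hz.2 (hb ⟨z, hzV⟩))
  obtain ⟨h, hle, hzh⟩ := hU.exists_basicOpen_le (V := X.basicOpen b) ⟨z, hbz⟩ hz.1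
  obtain ⟨bi, hbi⟩ : IsUnit (X.presheaf.map (homOfLE (X.basicOpen_le b)).op b) :=
    X.toRingedSpace.isUnit_res_basicOpen b
  refine ⟨h, hzh, X.presheaf.map (homOfLE (hle.trans (X.basicOpen_le b))).op a *
    X.presheaf.map (homOfLE hle).op ↑bi⁻¹, fun y hy => ?_⟩
  have hyV : y ∈ V := X.basicOpen_le b (hle hy)
  rw [map_mul, map_mul, TopCat.Presheaf.germ_res_apply, TopCat.Presheaf.germ_res_apply, ← hab ⟨y, hyV⟩,
    mul_assoc, ← map_mul]
  have : X.presheaf.germ V y hyV b * X.presheaf.germ (X.basicOpen b) y (hle hy) ↑bi⁻¹ = 1 := by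
    rw [← TopCat.Presheaf.germ_res_apply X.presheaf (homOfLE (X.basicOpen_le b)) y (hle hy) b, ← hbi,
      ← map_mul, Units.mul_inv, map_one]
  rw [this, map_one, mul_one]

theorem exists_pow_vanish {U : X.Opens} (hU : IsAffineOpen U) (φ : Γ(Mero.kmod X, U)) (h : Γ(X, U))
    (hφ : ∀ y (hy : y ∈ X.basicOpen h), Mero.evalK X U ⟨y, X.basicOpen_le h hy⟩ φ = 0) {z : X} (hz : z ∈ wass U) :
    ∃ m : ℕ, Mero.evalK X U ⟨z, hz.1⟩ (Mero.toK X U (h ^ m) * φ) = 0 := by
  obtain ⟨k, hzk, c, hc⟩ := exists_regular_near hU φ hz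
  let h' : Γ(X, X.basicOpen k) := X.presheaf.map (homOfLE (X.basicOpen_le k)).op h
  have h0 : X.presheaf.map (homOfLE (X.basicOpen_le h')).op c = 0 := by
    refine TopCat.Presheaf.section_ext X.sheaf _ _ _ fun y hy => ?_
    refine Eq.trans ?_ (map_zero _).symm
    refine (TopCat.Presheaf.germ_res_apply X.presheaf (homOfLE (X.basicOpen_le h')) y hy c).trans ?_
    have hyk : y ∈ X.basicOpen k := X.basicOpen_le h' hy
    have hyh : y ∈ X.basicOpen h := by
      have := (X.mem_basicOpen h' y hyk).1 hy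
      rw [TopCat.Presheaf.germ_res_apply] at this
      exact (X.mem_basicOpen h y (X.basicOpen_le k hyk)).2 this
    refine Mero.algebraMap_KStalk_injective y ?_
    exact ((hc y hyk).symm.trans (hφ y hyh)).trans (map_zero _).symm
  haveI := (hU.basicOpen k).isLocalization_basicOpen h'
  obtain ⟨⟨_, m, rfl⟩, hm⟩ := (IsLocalization.map_eq_zero_iff (Submonoid.powers h') Γ(X, X.basicOpen h') c).1 h0
  refine ⟨m, ?_⟩
  have hm' := congrArg (X.presheaf.germ (X.basicOpen k) z hzk) hm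
  rw [map_mul, map_pow, map_zero, TopCat.Presheaf.germ_res_apply, ← map_pow] at hm'
  rw [map_mul, evalK_toK, hc z hzk, ← map_mul, hm', map_zero]

theorem exists_denominator {U : X.Opens} (hU : IsAffineOpen U) (hfin : (wass U).Finite)
    (φ : Γ(Mero.kmod X, U)) :
    ∃ a t : Γ(X, U), t ∈ Mero.regSub X U ∧ Mero.toK X U t * φ = Mero.toK X U a := by
  let J : Ideal Γ(X, U) :=
    { carrier := {t | ∃ a, Mero.toK X U t * φ = Mero.toK X U a}
      zero_mem' := ⟨0, by rw [map_zero, zero_mul]⟩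
      add_mem' := fun ⟨a, ha⟩ ⟨b, hb⟩ => ⟨a + b, by rw [map_add, map_add, add_mul, ha, hb]⟩
      smul_mem' := fun c _ ⟨a, ha⟩ => ⟨c * a, by rw [smul_eq_mul, map_mul, map_mul, mul_assoc, ha]⟩ }
  by_contra hcon
  push Not at hcon
  haveI := hfin.fintype
  have hsub : (J : Set Γ(X, U)) ⊆ ⋃ z ∈ (↑(Finset.univ : Finset (wass U)) : Set (wass U)),
      ((hU.primeIdealOf ⟨z.1, z.2.1⟩).asIdeal : Set Γ(X, U)) := by
    rintro t ⟨a, ha⟩
    by_contra hout
    simp only [Finset.coe_univ, Set.mem_univ, Set.iUnion_true, Set.mem_iUnion, not_exists] at hout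
    exact hcon a t (mem_regSub_of_units hU fun z hz =>
      (AssPts.notMem_prime_iff hU z hz.1 t).1 (hout ⟨z, hz⟩)) ha
  by_cases hne : (wass U).Nonempty
  swap
  · exact hcon 0 1 (Submonoid.one_mem _) (by
      rw [map_one, one_mul, map_zero]
      exact k_eq_zero φ fun z hz => absurd ⟨z, hz⟩ hne)
  obtain ⟨z₀, hz₀⟩ := hne
  rw [Ideal.subset_union_prime ⟨z₀, hz₀⟩ ⟨z₀, hz₀⟩ fun z _ _ _ => (hU.primeIdealOf ⟨z.1, z.2.1⟩).isPrime] at hsub
  obtain ⟨z, -, hz⟩ := hsub
  obtain ⟨h, hzh, c, hc⟩ := exists_regular_near hU φ z.2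
  haveI := hU.isLocalization_basicOpen h
  obtain ⟨⟨c₀, _, n, rfl⟩, hc₀⟩ := IsLocalization.surj (Submonoid.powers h) c
  let ψ := Mero.toK X U (h ^ n) * φ - Mero.toK X U c₀
  have hψ : ∀ y (hy : y ∈ X.basicOpen h), Mero.evalK X U ⟨y, X.basicOpen_le h hy⟩ ψ = 0 := by
    intro y hy
    have e := congrArg (X.presheaf.germ (X.basicOpen h) y hy) hc₀
    rw [map_mul] at e
    simp only [RingHom.algebraMap_toAlgebra] at e
    rw [TopCat.Presheaf.germ_res_apply, TopCat.Presheaf.germ_res_apply] at e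
    rw [map_sub, map_mul, evalK_toK, evalK_toK, hc y hy, ← map_mul, mul_comm, e, sub_self]
  choose m hm using fun w : wass U => exists_pow_vanish hU ψ h hψ w.2
  let M := Finset.univ.sup m
  have hzero : Mero.toK X U (h ^ M) * ψ = 0 := k_eq_zero _ fun w hw => by
    obtain ⟨d, hd⟩ := Nat.exists_eq_add_of_le (Finset.le_sup (f := m) (Finset.mem_univ ⟨w, hw⟩))
    rw [show M = _ from hd, pow_add, mul_comm (h ^ _), map_mul (Mero.toK X U), mul_assoc, map_mul, hm ⟨w, hw⟩, mul_zero]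
  have hmem : h ^ M * h ^ n ∈ J := ⟨h ^ M * c₀, by
    rw [map_mul, map_mul, mul_assoc]
    rw [mul_sub] at hzero
    exact sub_eq_zero.1 hzero⟩
  have hzp : h ^ M * h ^ n ∈ (hU.primeIdealOf ⟨z.1, z.2.1⟩).asIdeal := hz hmem
  rw [← pow_add] at hzp
  exact (AssPts.notMem_prime_iff hU z.1 z.2.1 h).2 ((X.mem_basicOpen h z.1 z.2.1).1 hzh)
    ((hU.primeIdealOf ⟨z.1, z.2.1⟩).isPrime.mem_of_pow_mem _ hzp)

theorem inverse_mem {U : X.Opens} {r : Γ(X, U)} (hr : r ∈ Mero.regSub X U) :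
    IsUnit (Mero.toK X U r) := by
  let g : Γ(Mero.kmod X, U) := ⟨fun y => LocalizedModule.mk 1 (Mero.regGerm y ⟨r, hr⟩),
    fun y => ⟨U, y.2, 𝟙 _, 1, ⟨r, hr⟩, fun z => Mero.mk_congr (map_one _).symm rfl⟩⟩
  refine IsUnit.of_mul_eq_one g (Subtype.ext (funext fun y => ?_))
  show algebraMap (X.presheaf.stalk y.1) (Mero.KStalk X y.1) (X.presheaf.germ U y.1 y.2 r) *
    Localization.mk 1 (Mero.regGerm y ⟨r, hr⟩) = 1
  rw [Localization.mk_eq_mk'_apply, mul_comm]
  exact (IsLocalization.mk'_spec _ _ _).trans (map_one _)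

theorem isLocalization_of_finite {U : X.Opens} (hU : IsAffineOpen U) (hfin : (wass U).Finite) :
    @IsLocalization Γ(X, U) _ (nonZeroDivisors Γ(X, U)) Γ(Mero.kmod X, U) _ (Mero.toK X U).toAlgebra := by
  letI := (Mero.toK X U).toAlgebra
  exact
    { map_units := fun r => inverse_mem (mem_regSub_of_nzd hU r.2)
      surj := fun φ => by
        obtain ⟨a, t, ht, h⟩ := exists_denominator hU hfin φ
        exact ⟨⟨a, ⟨t, nzd_of_regSub ht⟩⟩, by rw [mul_comm]; exact h⟩
      exists_of_eq := fun {a b} h => by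
        refine ⟨1, congrArg _ ?_⟩
        refine TopCat.Presheaf.section_ext X.sheaf _ _ _ fun y hy => ?_
        exact Mero.algebraMap_KStalk_injective y (congrArg (Mero.evalK X U ⟨y, hy⟩) h) }

theorem regStalk_eq {U : X.Opens} (hU : IsAffineOpen U) (hfin : (wass U).Finite) {x : X} (hx : x ∈ U) :
    Mero.regStalk X x = nonZeroDivisors (X.presheaf.stalk x) := by
  classical
  refine le_antisymm (Mero.regStalk_le_nonZeroDivisors x) fun s hs => ?_
  obtain ⟨g, r, hg, hr⟩ := exists_germ_frac hU hx s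
  have hsel : ∀ z : wass U, ¬ z.1 ⤳ x → ∃ k : Γ(X, U),
      IsUnit (X.presheaf.germ U x hx k) ∧ ¬ IsUnit (X.presheaf.germ U z.1 z.2.1 k) := by
    intro z hzx
    rw [AssPts.specializes_iff hU x hx z.2.1] at hzx
    obtain ⟨k, hk, hkx⟩ := SetLike.not_le_iff_exists.1 hzx
    exact ⟨k, (AssPts.notMem_prime_iff hU x hx k).1 hkx,
      fun hu => (AssPts.notMem_prime_iff hU z.1 z.2.1 k).2 hu hk⟩
  choose k hk1 hk2 using hsel
  haveI := hfin.fintype
  let K := ∏ z : wass U, if h : z.1 ⤳ x then 1 else k z h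
  have hK : IsUnit (X.presheaf.germ U x hx K) := by
    rw [map_prod, IsUnit.prod_univ_iff]
    intro z
    split
    · rw [map_one]; exact isUnit_one
    · exact hk1 _ _
  have hxD : x ∈ X.basicOpen (g * K) := (X.mem_basicOpen _ x hx).2 (by rw [map_mul]; exact hg.mul hK)
  let D := X.basicOpen (g * K)
  obtain ⟨gi, hgi⟩ : IsUnit (X.presheaf.map (homOfLE (X.basicOpen_le (g * K))).op g) := by
    have := X.toRingedSpace.isUnit_res_basicOpen (g * K)
    rw [map_mul] at this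
    exact (IsUnit.mul_iff.1 this).1
  refine ⟨D, hxD, X.presheaf.map (homOfLE (X.basicOpen_le (g * K))).op r * ↑gi⁻¹, ?_, ?_⟩
  · refine Submonoid.mul_mem _ (mem_regSub_of_units (hU.basicOpen _) fun z hz => ?_)
      (fun y => ((Units.isUnit _).map _).mem_nonZeroDivisors)
    rw [TopCat.Presheaf.germ_res_apply]
    have hzU : z ∈ U := X.basicOpen_le _ hz.1
    have hzx : z ⤳ x := by
      by_contra hn
      refine hk2 ⟨z, hzU, hz.2⟩ hn ?_
      have h1 := (X.mem_basicOpen _ z hzU).1 hz.1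
      rw [map_mul, IsUnit.mul_iff, map_prod, IsUnit.prod_univ_iff] at h1
      have h2 := h1.2 ⟨z, hzU, hz.2⟩
      rwa [dif_neg hn] at h2
    rw [← TopCat.Presheaf.germ_stalkSpecializes_apply X.presheaf hx hzx r, ← hr, map_mul]
    refine IsUnit.mul ?_ (hg.map _)
    letI := (X.presheaf.germ U z hzU).hom.toAlgebra
    refine unit_of_nzd hz.2 (mem_nonZeroDivisors_iff_right.2 fun a ha => ?_)
    obtain ⟨g', a', hg', ha'⟩ := exists_germ_frac hU hzU a
    have h1 : X.presheaf.germ U z hzU (a' * r) = 0 := by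
      rw [map_mul, ← ha', ← TopCat.Presheaf.germ_stalkSpecializes_apply X.presheaf hx hzx r, ← hr, map_mul]
      calc a * X.presheaf.germ U z hzU g' * (X.presheaf.stalkSpecializes hzx s *
            X.presheaf.stalkSpecializes hzx (X.presheaf.germ U x hx g))
          = (a * X.presheaf.stalkSpecializes hzx s) * (X.presheaf.germ U z hzU g' *
            X.presheaf.stalkSpecializes hzx (X.presheaf.germ U x hx g)) := by ring
        _ = 0 := by rw [ha, zero_mul]
    obtain ⟨t, ht, htar⟩ := (germ_zero_iff hU hzU _).1 h1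
    have h2 := congrArg (X.presheaf.germ U x hx) htar
    rw [← mul_assoc, map_mul, map_zero, ← hr, ← mul_assoc] at h2
    have h3 := (mem_nonZeroDivisors_iff_right.1 hs) _ (hg.mul_left_eq_zero.1 h2)
    have h4 := congrArg (X.presheaf.stalkSpecializes hzx) h3
    rw [TopCat.Presheaf.germ_stalkSpecializes_apply, map_zero, map_mul, ← ha'] at h4
    exact hg'.mul_left_eq_zero.1 (ht.mul_right_eq_zero.1 h4)
  · rw [map_mul, TopCat.Presheaf.germ_res_apply, ← hr, mul_assoc]
    rw [← TopCat.Presheaf.germ_res_apply X.presheaf (homOfLE (X.basicOpen_le (g * K))) x hxD g, ← hgi,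
      ← map_mul, Units.mul_inv, map_one, mul_one]

end Groth.Agent.MeroFrac
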